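import Groth.Prelude.Def_W4bk4git07Quot
import Groth.Prelude.Def_AlgGrp
import Groth.Agent.GrpActLib.EtaleFixed
import Groth.Agent.SGA3UnitSec.KernelPair
import Groth.Agent.DimLib.Components
import Mathlib.AlgebraicGeometry.AlgClosed.Basic

/-! Orbits under a group and under a quotient by a normal subgroup acting on a geometric quotient. -/

set_option autoImplicit false
set_option linter.style.haveILetI false
set_option backward.isDefEq.respectTransparency.types false

universe u

open CategoryTheory CategoryTheory.Limits MonoidalCategory CartesianMonoidalCategory MonObj GrpObj AlgebraicGeometry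

noncomputable section

namespace Groth.Agent.NRGIT26

variable {S : Scheme.{u}} {H N Q X Y T : Over S} [GrpObj H] [GrpObj N] [GrpObj Q]

theorem psi_comp (q : H ⟶ Q) (a : AlgGrp.Action H X) (aQ : AlgGrp.Action Q Y) (π : X ⟶ Y)
    (hequiv : (q ⊗ₘ π) ≫ aQ.act = a.act ≫ π) (f : T ⟶ X) :
    GIT.psi a f ≫ (π ▷ T) = (q ▷ T) ≫ GIT.psi aQ (f ≫ π) := by
  apply CartesianMonoidalCategory.hom_ext
  · simp only [GIT.psi, Category.assoc, whiskerRight_fst, lift_fst_assoc, lift_fst]
    rw [← hequiv]
    simp only [← Category.assoc]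
    congr 1
    apply CartesianMonoidalCategory.hom_ext <;> simp
  · simp [GIT.psi]

theorem isPullback_whiskerRight (π : X ⟶ Y) (T : Over S) :
    IsPullback (fst X T).left (π ▷ T).left π.left (fst Y T).left := by
  have hXT : IsPullback (fst X T).left (snd X T).left X.hom T.hom := IsPullback.of_hasPullback X.hom T.hom
  have hYT : IsPullback (fst Y T).left (snd Y T).left Y.hom T.hom := IsPullback.of_hasPullback Y.hom T.hom
  refine IsPullback.of_bot (v₂₁ := (snd Y T).left) (v₂₂ := Y.hom) (h₃₁ := T.hom) ?_ ?_ hYT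
  · rw [Over.w π, ← Over.comp_left, whiskerRight_snd]; exact hXT
  · rw [← Over.comp_left, ← Over.comp_left, whiskerRight_fst]

theorem surjective_whiskerRight (π : X ⟶ Y) [Surjective π.left] (T : Over S) : Surjective (π ▷ T).left :=
  MorphismProperty.of_isPullback (isPullback_whiskerRight π T) ‹_›

theorem image_range_psi (q : H ⟶ Q) [Surjective q.left] (a : AlgGrp.Action H X) (aQ : AlgGrp.Action Q Y) (π : X ⟶ Y)
    (hequiv : (q ⊗ₘ π) ≫ aQ.act = a.act ≫ π) (f : T ⟶ X) :
    (π ▷ T).left.base '' Set.range (GIT.psi a f).left.base = Set.range (GIT.psi aQ (f ≫ π)).left.base := by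
  haveI := surjective_whiskerRight q T
  have h := congrArg (fun m => m.left) (psi_comp q a aQ π hequiv f)
  simp only [Over.comp_left] at h
  rw [← Set.range_comp, ← TopCat.coe_comp, ← Scheme.Hom.comp_base, h, Scheme.Hom.comp_base, TopCat.coe_comp,
    Set.range_comp, (q ▷ T).left.surjective.range_eq, Set.image_univ]

theorem preimage_image_range_psi (i : N ⟶ H) [IsMonHom i] (a : AlgGrp.Action H X) (aN : AlgGrp.Action N X)
    (haN : aN.act = (i ▷ X) ≫ a.act) (π : X ⟶ Y) (hπ : GIT.IsGeomQuot aN π) (f : T ⟶ X) :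
    (π ▷ T).left.base ⁻¹' ((π ▷ T).left.base '' Set.range (GIT.psi a f).left.base) =
      Set.range (GIT.psi a f).left.base := by
  refine Set.Subset.antisymm ?_ (Set.subset_preimage_image _ _)
  rintro z ⟨z', hz', hzz'⟩
  let πT := (π ▷ T).left
  obtain ⟨w, hw1, hw2⟩ := Scheme.Pullback.exists_preimage_pullback (f := πT) (g := πT) z z' hzz'.symm
  let m : pullback πT πT ⟶ pullback π.left π.left :=
    pullback.lift (pullback.fst πT πT ≫ (fst X T).left) (pullback.snd πT πT ≫ (fst X T).left) (by
      rw [Category.assoc, Category.assoc, (isPullback_whiskerRight π T).w, ← Category.assoc, pullback.condition,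
        Category.assoc])
  obtain ⟨u₀, hu₀⟩ := hπ.orbit (m w)
  obtain ⟨u, hu1, hu2⟩ := Scheme.Pullback.exists_preimage_pullback (f := GIT.PsiY aN π hπ.inv) (g := m) u₀ w hu₀
  let sf := pullback.fst (GIT.PsiY aN π hπ.inv) m
  let ss := pullback.snd (GIT.PsiY aN π hπ.inv) m
  let P : Over S := Over.mk (sf ≫ (N ⊗ X).hom)
  let nx : P ⟶ N ⊗ X := Over.homMk sf rfl
  have e1 : sf ≫ aN.act.left = (ss ≫ pullback.fst πT πT) ≫ (fst X T).left := by
    have := congrArg (· ≫ pullback.fst π.left π.left) (pullback.condition (f := GIT.PsiY aN π hπ.inv) (g := m))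
    simp only [Category.assoc] at this
    rw [show GIT.PsiY aN π hπ.inv ≫ pullback.fst π.left π.left = aN.act.left from pullback.lift_fst _ _ _,
      show m ≫ pullback.fst π.left π.left = pullback.fst πT πT ≫ (fst X T).left from pullback.lift_fst _ _ _] at this
    exact this.trans (Category.assoc _ _ _).symm
  have e2 : sf ≫ (snd N X).left = (ss ≫ pullback.snd πT πT) ≫ (fst X T).left := by
    have := congrArg (· ≫ pullback.snd π.left π.left) (pullback.condition (f := GIT.PsiY aN π hπ.inv) (g := m))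
    simp only [Category.assoc] at this
    rw [show GIT.PsiY aN π hπ.inv ≫ pullback.snd π.left π.left = (snd N X).left from pullback.lift_snd _ _ _,
      show m ≫ pullback.snd π.left π.left = pullback.snd πT πT ≫ (fst X T).left from pullback.lift_snd _ _ _] at this
    exact this.trans (Category.assoc _ _ _).symm
  have hw2' : (ss ≫ pullback.snd πT πT) ≫ (X ⊗ T).hom = sf ≫ (N ⊗ X).hom := by
    rw [← Over.w (snd N X), ← Category.assoc sf, e2, Category.assoc, Category.assoc, Category.assoc, Over.w (fst X T)]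
  have hsnd : (ss ≫ pullback.fst πT πT) ≫ (snd X T).left = (ss ≫ pullback.snd πT πT) ≫ (snd X T).left := by
    have hs : πT ≫ (snd Y T).left = (snd X T).left := by rw [← Over.comp_left, whiskerRight_snd]
    rw [← hs, Category.assoc, Category.assoc, pullback.condition_assoc]
  have hw1' : (ss ≫ pullback.fst πT πT) ≫ (X ⊗ T).hom = sf ≫ (N ⊗ X).hom := by
    rw [← hw2', ← Over.w (snd X T), ← Category.assoc, hsnd, Category.assoc]
  let Z : P ⟶ X ⊗ T := Over.homMk (ss ≫ pullback.fst πT πT) hw1'
  let Z' : P ⟶ X ⊗ T := Over.homMk (ss ≫ pullback.snd πT πT) hw2'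
  have hZ1 : Z ≫ fst X T = nx ≫ aN.act := Over.OverMorphism.ext e1.symm
  have hZ'1 : Z' ≫ fst X T = nx ≫ snd N X := Over.OverMorphism.ext e2.symm
  have hZ2 : Z ≫ snd X T = Z' ≫ snd X T := Over.OverMorphism.ext hsnd
  have hzu : Z.left.base u = z := by
    show (ss ≫ pullback.fst πT πT) u = z
    rw [Scheme.Hom.comp_apply, hu2, hw1]
  have hz'u : Z'.left.base u = z' := by
    show (ss ≫ pullback.snd πT πT) u = z'
    rw [Scheme.Hom.comp_apply, hu2, hw2]
  obtain ⟨g₀, hg₀⟩ := hz'
  obtain ⟨v, hv1, hv2⟩ := Scheme.Pullback.exists_preimage_pullback (f := Z'.left) (g := (GIT.psi a f).left) u g₀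
    (hz'u.trans hg₀.symm)
  let pf := pullback.fst Z'.left (GIT.psi a f).left
  let P' : Over S := Over.mk (pf ≫ P.hom)
  let j : P' ⟶ P := Over.homMk pf rfl
  let ht : P' ⟶ H ⊗ T := Over.homMk (pullback.snd Z'.left (GIT.psi a f).left) (by
    show pullback.snd Z'.left _ ≫ _ = pf ≫ P.hom
    rw [← Over.w (GIT.psi a f), ← Category.assoc, ← pullback.condition, Category.assoc, Over.w Z'])
  have hc : j ≫ Z' = ht ≫ GIT.psi a f := Over.OverMorphism.ext pullback.condition
  let g : P' ⟶ H ⊗ T := lift ((j ≫ nx ≫ fst N X ≫ i) * (ht ≫ fst H T)) (ht ≫ snd H T)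
  have hg : g ≫ GIT.psi a f = j ≫ Z := by
    have hx : j ≫ nx ≫ snd N X = lift (ht ≫ fst H T) (ht ≫ snd H T ≫ f) ≫ a.act := by
      rw [← hZ'1, ← Category.assoc, hc, GIT.psi, Category.assoc, lift_fst, ← Category.assoc]
      congr 1
      apply CartesianMonoidalCategory.hom_ext <;> simp
    apply CartesianMonoidalCategory.hom_ext
    · rw [GIT.psi, Category.assoc, lift_fst, Category.assoc j Z, hZ1, haN, ← Category.assoc g, lift_whiskerLeft,
        Category.assoc, Hom.mul_def, GrpActLib.lift_mul_act, ← hx]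
      simp only [← Category.assoc]
      congr 1
      apply CartesianMonoidalCategory.hom_ext <;> simp
    · rw [GIT.psi, Category.assoc, lift_snd, Category.assoc j Z, hZ2, ← Category.assoc j Z', hc, GIT.psi]
      simp [g]
  refine ⟨g.left.base v, ?_⟩
  have h1 := congrArg (fun m => m.left.base v) hg
  simp only [Over.comp_left, Scheme.Hom.comp_apply] at h1
  rw [h1]
  show Z.left.base (pf v) = z
  rw [hv1, hzu]

/-- Orbits upstairs and downstairs are closed simultaneously. -/
theorem isClosed_iff (i : N ⟶ H) [IsMonHom i] (q : H ⟶ Q) [Surjective q.left]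
    (a : AlgGrp.Action H X) (aN : AlgGrp.Action N X)
    (haN : aN.act = (i ▷ X) ≫ a.act) (π : X ⟶ Y) (hπ : GIT.IsGeomQuot aN π)
    (aQ : AlgGrp.Action Q Y) (hequiv : (q ⊗ₘ π) ≫ aQ.act = a.act ≫ π) (f : T ⟶ X) :
    IsClosed (Set.range (GIT.psi aQ (f ≫ π)).left.base) ↔ IsClosed (Set.range (GIT.psi a f).left.base) := by
  have hq : Topology.IsQuotientMap (π ▷ T).left.base :=
    hπ.subm _ _ _ (isPullback_whiskerRight π T).flip
  rw [← image_range_psi q a aQ π hequiv f]
  conv_rhs => rw [← preimage_image_range_psi i a aN haN π hπ f]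
  exact hq.isClosed_preimage.symm

/-- A geometric point lifts along a surjection of finite type. -/
theorem exists_lift_geometricPoint {X Y T : Over S} (π : X ⟶ Y) [Surjective π.left] [LocallyOfFiniteType π.left]
    {Ω : Type u} [Field Ω] [IsAlgClosed Ω] (e : T.left ≅ Spec (CommRingCat.of Ω)) (y : T ⟶ Y) :
    ∃ x : T ⟶ X, x ≫ π = y := by
  let P := pullback π.left y.left
  let p : P ⟶ Spec (CommRingCat.of Ω) := pullback.snd π.left y.left ≫ e.hom
  haveI : LocallyOfFiniteType p :=
    inferInstanceAs (LocallyOfFiniteType (pullback.snd π.left y.left ≫ e.hom))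
  haveI : Surjective (pullback.snd π.left y.left) := inferInstance
  obtain ⟨z₀, -⟩ := (pullback.snd π.left y.left).surjective (e.inv (IsLocalRing.closedPoint Ω))
  obtain ⟨z, -, hz⟩ := DimLib.exists_isClosed_singleton_mem p (S := Set.univ) ⟨z₀, trivial⟩ isClosed_univ.isLocallyClosed
  let x₀ := e.hom ≫ pointOfClosedPoint p z hz ≫ pullback.fst π.left y.left
  have h1 : x₀ ≫ π.left = y.left := by
    have h2 : e.hom ≫ pointOfClosedPoint p z hz ≫ pullback.snd π.left y.left = 𝟙 _ := by
      rw [← cancel_mono e.hom, Category.assoc, Category.assoc, pointOfClosedPoint_comp, Category.comp_id, Category.id_comp]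
    simp only [x₀, Category.assoc, pullback.condition]
    rw [← Category.assoc, ← Category.assoc, Category.assoc e.hom, h2, Category.id_comp]
  exact ⟨Over.homMk x₀ (by rw [← Over.w π, ← Category.assoc, h1, Over.w y]), Over.OverMorphism.ext h1⟩

end Groth.Agent.NRGIT26
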