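import Groth.Prelude.Def_GLinSh
import Groth.Prelude.Def_AlgGrp
import Groth.Agent.NRGIT26.OrbitQuot
import Mathlib.AlgebraicGeometry.AlgClosed.Basic
import Mathlib.AlgebraicGeometry.Morphisms.QuasiFinite

/-! Finiteness of stabilisers of geometric points, via their rational points. -/

set_option autoImplicit false
set_option linter.style.haveILetI false
set_option backward.isDefEq.respectTransparency.types false

universe u

open CategoryTheory CategoryTheory.Limits MonoidalCategory CartesianMonoidalCategory MonObj GrpObj AlgebraicGeometry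

noncomputable section

namespace Groth.Agent.NRGIT26

theorem isFinite_iff_finite_closedPoints {K : Type u} [Field K] {Z : Scheme.{u}}
    (p : Z ⟶ Spec (.of K)) [LocallyOfFiniteType p] :
    IsFinite p ↔ Finite (closedPoints Z) := by
  haveI : JacobsonSpace Z := LocallyOfFiniteType.jacobsonSpace p
  refine ⟨fun h => ?_, fun h => ?_⟩
  · haveI : Finite Z := Set.finite_univ_iff.1 (by simpa using p.finite_preimage (Set.toFinite (Set.univ : Set ↥(Spec (CommRingCat.of K)))))
    infer_instance
  · have hfin : (closedPoints Z).Finite := h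
    haveI : DiscreteTopology Z := JacobsonSpace.discreteTopology hfin
    have huniv : closedPoints Z = Set.univ := Set.eq_univ_of_forall fun z => isClosed_discrete {z}
    haveI : Finite Z := Set.finite_univ_iff.1 (huniv ▸ hfin)
    haveI : LocallyQuasiFinite p := LocallyQuasiFinite.of_finite_preimage_singleton p fun _ => Set.toFinite _
    haveI : CompactSpace Z := Finite.compactSpace
    haveI : QuasiCompact p := (quasiCompact_iff_compactSpace p).2 inferInstance
    exact IsFinite.of_locallyQuasiFinite p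

variable {S : Scheme.{u}} {H N Q X Y T : Over S} [GrpObj H] [GrpObj N] [GrpObj Q]

theorem locallyOfFiniteType_psi [LocallyOfFiniteType H.hom] (a : AlgGrp.Action H X) (f : T ⟶ X) :
    LocallyOfFiniteType (GIT.psi a f).left := by
  haveI : LocallyOfFiniteType (snd H T).left :=
    MorphismProperty.of_isPullback (IsPullback.of_hasPullback H.hom T.hom) ‹_›
  haveI : LocallyOfFiniteType ((GIT.psi a f).left ≫ (snd X T).left) := by
    rw [← Over.comp_left, GIT.psi, lift_snd]; infer_instance
  exact locallyOfFiniteType_of_comp _ (snd X T).left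

theorem lift_psi (a : AlgGrp.Action H X) (f : T ⟶ X) (h : T ⟶ H) :
    lift h (𝟙 T) ≫ GIT.psi a f = lift (lift h f ≫ a.act) (𝟙 T) := by
  apply CartesianMonoidalCategory.hom_ext <;> simp [GIT.psi]

/-- Sections of the stabiliser over `T` are the `T`-points of the group fixing `f`. -/
def sectionsStab (a : AlgGrp.Action H X) (f : T ⟶ X) :
    {s : T.left ⟶ pullback (GIT.psi a f).left (lift f (𝟙 T)).left //
      s ≫ pullback.snd (GIT.psi a f).left (lift f (𝟙 T)).left = 𝟙 _} ≃ {h : T ⟶ H // lift h f ≫ a.act = f} where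
  toFun s := by
    let g := s.1 ≫ pullback.fst (GIT.psi a f).left (lift f (𝟙 T)).left
    have hg : g ≫ (GIT.psi a f).left = (lift f (𝟙 T)).left := by
      show (s.1 ≫ pullback.fst _ _) ≫ _ = _
      rw [Category.assoc, pullback.condition, ← Category.assoc,
        show s.1 ≫ pullback.snd _ _ = 𝟙 _ from s.2, Category.id_comp]
    have hgw : g ≫ (H ⊗ T).hom = T.hom := by
      rw [← Over.w (GIT.psi a f), ← Category.assoc, hg, Over.w]
    let G : T ⟶ H ⊗ T := Over.homMk g hgw
    have hG : G ≫ GIT.psi a f = lift f (𝟙 T) := Over.OverMorphism.ext hg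
    refine ⟨G ≫ fst H T, ?_⟩
    have h2 : G ≫ snd H T = 𝟙 T := by
      have := congrArg (· ≫ snd X T) hG
      simpa [GIT.psi] using this
    have h1 := congrArg (· ≫ fst X T) hG
    simp only [GIT.psi, Category.assoc, lift_fst] at h1
    rw [← Category.assoc] at h1
    refine (Eq.trans ?_ h1)
    congr 1
    apply CartesianMonoidalCategory.hom_ext
    · simp
    · simp only [lift_snd, Category.assoc, whiskerLeft_snd]
      rw [← Category.assoc, h2, Category.id_comp]
  invFun h := ⟨pullback.lift (lift h.1 (𝟙 T)).left (𝟙 _) (by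
      rw [← Over.comp_left, lift_psi, h.2, Category.id_comp]), pullback.lift_snd _ _ _⟩
  left_inv s := by
    apply Subtype.ext
    apply pullback.hom_ext
    · rw [pullback.lift_fst]
      let g := s.1 ≫ pullback.fst (GIT.psi a f).left (lift f (𝟙 T)).left
      have hg : g ≫ (GIT.psi a f).left = (lift f (𝟙 T)).left := by
        show (s.1 ≫ pullback.fst _ _) ≫ _ = _
        rw [Category.assoc, pullback.condition, ← Category.assoc,
          show s.1 ≫ pullback.snd _ _ = 𝟙 _ from s.2, Category.id_comp]
      have hgw : g ≫ (H ⊗ T).hom = T.hom := by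
        rw [← Over.w (GIT.psi a f), ← Category.assoc, hg, Over.w]
      let G : T ⟶ H ⊗ T := Over.homMk g hgw
      have h2 : G ≫ snd H T = 𝟙 T := by
        have := congrArg (· ≫ snd X T) (show G ≫ GIT.psi a f = lift f (𝟙 T) from Over.OverMorphism.ext hg)
        simpa [GIT.psi] using this
      show (lift (G ≫ fst H T) (𝟙 T)).left = G.left
      rw [← h2, ← comp_lift, lift_fst_snd, Category.comp_id]
    · rw [pullback.lift_snd]; exact s.2.symm
  right_inv h := by
    apply Subtype.ext
    apply Over.OverMorphism.ext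
    show (pullback.lift _ _ _ ≫ pullback.fst _ _) ≫ (fst H T).left = h.1.left
    rw [pullback.lift_fst, ← Over.comp_left, lift_fst]

/-- A stabiliser of a geometric point is finite iff it has finitely many rational points. -/
theorem isFinite_stabTo_iff [LocallyOfFiniteType H.hom] (a : AlgGrp.Action H X) (f : T ⟶ X)
    {Ω : Type u} [Field Ω] [IsAlgClosed Ω] (e : T.left ≅ Spec (CommRingCat.of Ω)) :
    IsFinite (GLinSh.stabTo a f) ↔ Finite {h : T ⟶ H // lift h f ≫ a.act = f} := by
  haveI := locallyOfFiniteType_psi a f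
  show IsFinite (pullback.snd (GIT.psi a f).left (lift f (𝟙 T)).left) ↔ _
  haveI : LocallyOfFiniteType (pullback.snd (GIT.psi a f).left (lift f (𝟙 T)).left) := inferInstance
  rw [← MorphismProperty.cancel_right_of_respectsIso @IsFinite (pullback.snd (GIT.psi a f).left (lift f (𝟙 T)).left) e.hom,
    isFinite_iff_finite_closedPoints,
    ← Equiv.finite_iff (pointEquivClosedPoint (pullback.snd (GIT.psi a f).left (lift f (𝟙 T)).left ≫ e.hom))]
  refine Equiv.finite_iff (Equiv.trans ?_ (sectionsStab a f))
  exact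
    { toFun := fun p => ⟨e.hom ≫ p.1, by rw [Category.assoc, ← cancel_mono e.hom, Category.assoc, Category.assoc, p.2,
        Category.comp_id, Category.id_comp]⟩
      invFun := fun s => ⟨e.inv ≫ s.1, by rw [Category.assoc, ← Category.assoc s.1, s.2, Category.id_comp, e.inv_hom_id]⟩
      left_inv := fun p => Subtype.ext (by simp)
      right_inv := fun s => Subtype.ext (by simp) }

/-- `G_H(x) ⟶ G_Q(π x)` is surjective with fibres injecting into `G_N(x)`. -/
theorem finite_stab_quotient_iff [LocallyOfFiniteType N.hom] [LocallyOfFiniteType H.hom]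
    (i : N ⟶ H) [IsMonHom i] (q : H ⟶ Q) [IsMonHom q] [Surjective q.left] [LocallyOfFiniteType q.left]
    (hker : AlgGrp.IsKernel i q)
    (a : AlgGrp.Action H X) (aN : AlgGrp.Action N X) (haN : aN.act = (i ▷ X) ≫ a.act)
    (π : X ⟶ Y) (hπ : GIT.IsGeomQuot aN π)
    (aQ : AlgGrp.Action Q Y) (hequiv : (q ⊗ₘ π) ≫ aQ.act = a.act ≫ π)
    {Ω : Type u} [Field Ω] [IsAlgClosed Ω] (e : T.left ≅ Spec (CommRingCat.of Ω)) (x : T ⟶ X)
    [Finite {n : T ⟶ N // lift n x ≫ aN.act = x}] :
    Finite {r : T ⟶ Q // lift r (x ≫ π) ≫ aQ.act = x ≫ π} ↔ Finite {h : T ⟶ H // lift h x ≫ a.act = x} := by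
  have hN : ∀ (n : T ⟶ N) (z : T ⟶ X), lift n z ≫ aN.act = lift (n ≫ i) z ≫ a.act := fun n z => by
    rw [haN, lift_whiskerRight_assoc]
  have hmul : ∀ (g h : T ⟶ H) (z : T ⟶ X), lift (g * h) z ≫ a.act = lift g (lift h z ≫ a.act) ≫ a.act :=
    fun g h z => GrpActLib.lift_mul_act a g h z
  have hone : ∀ (z : T ⟶ X), lift (1 : T ⟶ H) z ≫ a.act = z := fun z => GrpActLib.lift_one_act a z
  have hinv : ∀ (h : T ⟶ H) (z w : T ⟶ X), lift h z ≫ a.act = w → lift h⁻¹ w ≫ a.act = z := fun h z w e' => by
    rw [← e', ← hmul, inv_mul_cancel, hone]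
  have hq : ∀ (h : T ⟶ H) (z : T ⟶ X), (lift h z ≫ a.act) ≫ π = lift (h ≫ q) (z ≫ π) ≫ aQ.act := fun h z => by
    rw [Category.assoc, ← hequiv, lift_map_assoc]
  let F : {h : T ⟶ H // lift h x ≫ a.act = x} → {r : T ⟶ Q // lift r (x ≫ π) ≫ aQ.act = x ≫ π} :=
    fun h => ⟨h.1 ≫ q, by rw [← hq, h.2]⟩
  have hiq : ∀ n : T ⟶ N, (n ≫ i) ≫ q = 1 := fun n => by
    rw [Category.assoc, hker.w, Hom.one_def, ← Category.assoc, toUnit_unique (n ≫ toUnit N) (toUnit T)]
  have hsurj : Function.Surjective F := by
    rintro ⟨r, hr⟩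
    obtain ⟨h, rfl⟩ := exists_lift_geometricPoint q e r
    let x' := lift h x ≫ a.act
    have hx' : x' ≫ π = x ≫ π := by rw [show x' ≫ π = _ from hq h x, hr]
    let Z : Over S := Over.mk (pullback.fst π.left π.left ≫ X.hom)
    let P : N ⊗ X ⟶ Z := Over.homMk (GIT.PsiY aN π hπ.inv) (by
      show GIT.PsiY aN π hπ.inv ≫ pullback.fst π.left π.left ≫ X.hom = _
      rw [← Category.assoc, show GIT.PsiY aN π hπ.inv ≫ pullback.fst π.left π.left = aN.act.left from
        pullback.lift_fst _ _ _, Over.w aN.act])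
    haveI : Surjective P.left := ⟨hπ.orbit⟩
    haveI : LocallyOfFiniteType P.left := by
      haveI : LocallyOfFiniteType (snd N X).left :=
        MorphismProperty.of_isPullback (IsPullback.of_hasPullback N.hom X.hom) ‹_›
      haveI : LocallyOfFiniteType (P.left ≫ pullback.snd π.left π.left) := by
        rw [show P.left ≫ pullback.snd π.left π.left = (snd N X).left from pullback.lift_snd _ _ _]; infer_instance
      exact locallyOfFiniteType_of_comp _ (pullback.snd π.left π.left)
    obtain ⟨m, hm⟩ := exists_lift_geometricPoint P e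
      (Over.homMk (pullback.lift x'.left x.left (congrArg CommaMorphism.left hx')) (by
        show pullback.lift _ _ _ ≫ pullback.fst π.left π.left ≫ X.hom = _
        rw [pullback.lift_fst_assoc, Over.w x']))
    have hm' : m.left ≫ GIT.PsiY aN π hπ.inv = pullback.lift x'.left x.left (congrArg CommaMorphism.left hx') :=
      congrArg CommaMorphism.left hm
    have hm1 : m ≫ aN.act = x' := by
      apply Over.OverMorphism.ext
      show m.left ≫ aN.act.left = x'.left
      have := congrArg (· ≫ pullback.fst π.left π.left) hm'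
      rw [Category.assoc,
        show GIT.PsiY aN π hπ.inv ≫ pullback.fst π.left π.left = aN.act.left from pullback.lift_fst _ _ _] at this
      exact this.trans (pullback.lift_fst _ _ _)
    have hm2 : m ≫ snd N X = x := by
      apply Over.OverMorphism.ext
      show m.left ≫ (snd N X).left = x.left
      have := congrArg (· ≫ pullback.snd π.left π.left) hm'
      rw [Category.assoc,
        show GIT.PsiY aN π hπ.inv ≫ pullback.snd π.left π.left = (snd N X).left from pullback.lift_snd _ _ _] at this
      exact this.trans (pullback.lift_snd _ _ _)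
    have hn : lift ((m ≫ fst N X) ≫ i) x ≫ a.act = x' := by
      rw [← hN, ← hm1, ← hm2, ← comp_lift, lift_fst_snd, Category.comp_id]
    refine ⟨⟨((m ≫ fst N X) ≫ i)⁻¹ * h, ?_⟩, Subtype.ext ?_⟩
    · rw [hmul]; exact hinv _ _ _ hn
    · show (((m ≫ fst N X) ≫ i)⁻¹ * h) ≫ q = h ≫ q
      rw [MonObj.mul_comp, GrpObj.inv_comp, hiq, inv_one, _root_.one_mul]
  refine ⟨fun hQ => ?_, fun hH => Finite.of_surjective F hsurj⟩
  choose σ hσ using hsurj
  have key : ∀ h : {h : T ⟶ H // lift h x ≫ a.act = x},
      ∃ n : {n : T ⟶ N // lift n x ≫ aN.act = x}, n.1 ≫ i = h.1 * (σ (F h)).1⁻¹ := by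
    intro h
    have h1 : (h.1 * (σ (F h)).1⁻¹) ≫ q = toUnit T ≫ η[Q] := by
      have h2 : (σ (F h)).1 ≫ q = h.1 ≫ q := congrArg Subtype.val (hσ (F h))
      rw [MonObj.mul_comp, GrpObj.inv_comp, h2, mul_inv_cancel, Hom.one_def]
    refine ⟨⟨hker.lift _ _ h1, ?_⟩, hker.lift_fst _ _ h1⟩
    rw [hN, hker.lift_fst, hmul, hinv _ _ _ (σ (F h)).2, h.2]
  choose ν hν using key
  refine Finite.of_injective (fun h => (F h, ν h)) fun h₁ h₂ h12 => Subtype.ext ?_
  have e1 : F h₁ = F h₂ := congrArg Prod.fst h12
  have e2 : ν h₁ = ν h₂ := congrArg Prod.snd h12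
  have := hν h₁
  rw [e2, hν h₂, e1] at this
  exact (mul_right_cancel this).symm

end Groth.Agent.NRGIT26
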